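import Cfsg.Agent.TwoF.XS.Sp2.Sie
import Cfsg.Agent.TwoF.XS.Defs
import Cfsg.Agent.LieClassical.OrthForms
import Cfsg.Agent.LieClassical.FieldTransfer
import Cfsg.Agent.ClassicalGeometry.SympBasic
import Cfsg.Agent.ClassicalGeometry.OrthAut1
import Cfsg.Agent.S0245
import Cfsg.Agent.S0246
import Cfsg.Agent.S0290
import Cfsg.Agent.S0294
import Cfsg.Agent.S0814
import Cfsg.Agent.S0818
import Cfsg.Agent.S2092
import Cfsg.Agent.S2099

/-!
# TwoF / XS / Sp2 : the rows `Sp₈(2)`, ..., `Sp₁₄(2)` (`p = 3, 5`) and `Ω₈⁻(2)` (`p = 3`) (helper75)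
-/

set_option autoImplicit false

namespace Cfsg.Agent.TwoF.XS.SpTwo

open Module Gen Subgroup QuadraticMap XE Cfsg.Agent.LieClassical Cfsg.Agent.LieClassical.OrthCore
  Cfsg.Agent.LieClassical.OrthFinite Cfsg.Agent.ClassicalGeometry
open scoped Matrix

section lin

variable {F W : Type*} [Field F] [AddCommGroup W] [Module F W] {S : Type*} [Group S]

/-- a non-zero vector with a large stabiliser -/
theorem exists_vec [Finite W] [Finite S] {p : ℕ} [Fact p.Prime] (j : S →* (W ≃ₗ[F] W)) {A : Subgroup S}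
    (hA : IsPGroup p A) {T : Set W} (h0 : (0 : W) ∈ T) (hT : ∀ a ∈ A, ∀ v ∈ T, j a v ∈ T) {k : ℕ}
    (h : ¬ p ^ (k + 1) ∣ Nat.card T - 1) :
    ∃ v ∈ T, v ≠ 0 ∧ ∃ B ≤ A, (∀ b ∈ B, j b v = v) ∧ Nat.card A ≤ p ^ k * Nat.card B := by
  let : MulAction A ↥(T \ {0}) :=
    { smul := fun a v => ⟨j a v, hT a a.2 v v.2.1, fun e => v.2.2 ((j a).map_eq_zero_iff.1 e)⟩
      one_smul := fun v => Subtype.ext (by
        show j ((1 : A) : S) v = v
        rw [OneMemClass.coe_one, map_one]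
        rfl)
      mul_smul := fun a b v => Subtype.ext (by
        show j ((a * b : A) : S) v = j a (j b v)
        rw [Subgroup.coe_mul, map_mul]
        rfl) }
  obtain ⟨v, hv⟩ := exists_stab (X := ↥(T \ {0})) hA (k := k) (by
    rwa [Nat.card_coe_set_eq, Set.ncard_sdiff_singleton_of_mem h0, ← Nat.card_coe_set_eq])
  refine ⟨v, v.2.1, v.2.2, (MulAction.stabilizer A v).map A.subtype, map_subtype_le _, ?_, ?_⟩
  · rintro _ ⟨b, hb, rfl⟩
    exact congrArg Subtype.val hb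
  · rwa [card_map_of_injective A.subtype_injective]

/-- a group of odd order preserves a quadratic form with given polar form -/
theorem exists_form (h2 : (2 : F) = 0) (Q₁ : QuadraticForm F W) (j : S →* (W ≃ₗ[F] W)) {B : Subgroup S} [Finite B]
    (hB : Odd (Nat.card B)) (hj : ∀ b ∈ B, ∀ x y, polar Q₁ (j b x) (j b y) = polar Q₁ x y) {v : W} (h0 : v ≠ 0)
    (hf : ∀ b ∈ B, j b v = v) :
    ∃ Q : QuadraticForm F W, (∀ x y, polar Q x y = polar Q₁ x y) ∧ Q v = 0 ∧ ∀ b ∈ B, j b ∈ O Q := by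
  have := Fintype.ofFinite B
  obtain ⟨φ, -, hφ⟩ := LinearMap.exists_extend_of_notMem (0 : (⊥ : Submodule F W) →ₗ[F] F) (by simpa using h0) 1
  let Q₀ : QuadraticForm F W := Q₁ - Q₁ v • linMulLin φ φ
  have h1 : ∀ x, Q₀ x = Q₁ x - Q₁ v * (φ x * φ x) := fun x => rfl
  have h3 : ∀ x y, polar Q₀ x y = polar Q₁ x y := fun x y => by
    simp only [polar, h1, map_add]
    linear_combination (-(Q₁ v * φ x * φ y)) * h2
  let Q : QuadraticForm F W := ∑ b : B, Q₀.comp (j b).toLinearMap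
  have h4 : ∀ x, Q x = ∑ b : B, Q₀ (j b x) := fun x => by
    simp only [Q, _root_.sum_apply]
    rfl
  refine ⟨Q, fun x y => ?_, ?_, fun b hb x => ?_⟩
  · have h5 : polar Q x y = ∑ b : B, polar Q₀ (j b x) (j b y) := by
      simp only [polar, h4, map_add, Finset.sum_sub_distrib]
    obtain ⟨n, hn⟩ := hB
    rw [h5, Finset.sum_congr rfl fun (b : B) _ => (h3 _ _).trans (hj b b.2 x y), Finset.sum_const, Finset.card_univ,
      ← Nat.card_eq_fintype_card, hn, nsmul_eq_mul]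
    push_cast
    rw [h2, zero_mul, zero_add, one_mul]
  · rw [h4]
    exact Finset.sum_eq_zero fun b _ => by rw [hf b b.2, h1, hφ, mul_one, mul_one, sub_self]
  · rw [h4, h4]
    refine Fintype.sum_equiv (Equiv.mulRight (⟨b, hb⟩ : B)) _ _ fun c => ?_
    rw [Equiv.coe_mulRight, Subgroup.coe_mul, map_mul]
    rfl

end lin

theorem exists_quot {G : Type*} [Group G] (h : center G = ⊥) : Nonempty (G ⧸ center G ≃* G) :=
  ⟨(QuotientGroup.quotientMulEquivOfEq h).trans QuotientGroup.quotientBot⟩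

theorem center_eq_bot {S G : Type*} [Group S] [Group G] (e : S ≃* G) (h : center G = ⊥) : center S = ⊥ := by
  rw [← map_center_mulEquiv e.symm, h, Subgroup.map_bot]

theorem not_dvd_out {S : Type} [Group S] [Finite S] (hS : center S = ⊥) {p o : ℕ}
    (h : Nat.card (MulAut S) = o * Nat.card S) (ho : ¬ p ∣ o) : ¬ p ∣ Nat.card (Out S) := by
  rw [card_aut hS, mul_comm] at h
  rwa [Nat.eq_of_mul_eq_mul_right Nat.card_pos h]

theorem two_eq_zero {F : Type*} [Field F] [Fintype F] (hF : Fintype.card F = 2) : (2 : F) = 0 := by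
  have := FiniteField.cast_card_eq_zero F
  rwa [hF, Nat.cast_ofNat] at this

theorem row_omega {ι F : Type} [Fintype ι] [DecidableEq ι] [Field F] [Finite F] (Q : QuadraticForm F (ι → F))
    {q : (ι → F) → F} (hq : ⇑Q = q) (h2 : (2 : F) = 0) (hQ : Nondeg Q) (hι : Fintype.card ι = 8)
    (hz : Zc 3 (POmega F q) 1) (hc : ¬ 3 ^ 5 ∣ Nat.card (POmega F q))
    (ha : Nat.card (MulAut (POmega F q)) = 2 * Nat.card (POmega F q)) (hX : Nat.card {v // q v = 0} = 120) :
    Row88 3 (POmega F q) := by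
  subst hq
  have hd : finrank F (ι → F) = 8 := by rw [Module.finrank_fintype_fun_eq_card, hι]
  have hG := good_of_finite hQ (by omega)
  have h1 : center (E Q) = ⊥ := (eq_bot_iff_forall _).2 fun z hz => by
    obtain ⟨c, hc⟩ := OrthAut1.center_scalar hG hz
    obtain ⟨x, y, hxy⟩ := hG.exists_hyp
    have h3 := polar_map (E_le_O z.2) x y
    rw [hc, hc, polar_smul_left, polar_smul_right, hxy.pair, smul_eq_mul, smul_eq_mul, mul_one] at h3
    have h4 : c = 1 := sub_eq_zero.1 (pow_eq_zero_iff two_ne_zero |>.1 (by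
      linear_combination h3 + (1 - c) * h2))
    ext v
    rw [hc, h4, one_smul]
    rfl
  obtain ⟨e₁⟩ := exists_quot h1
  let e : POmega F Q ≃* E Q :=
    (quotientCenterCongr ((omegaEquiv Q).trans (MulEquiv.subgroupCongr hG.commutator_eq_E))).trans e₁
  let j : POmega F Q →* ((ι → F) ≃ₗ[F] (ι → F)) := (E Q).subtype.comp e.toMonoidHom
  have H : Emb Q j := ⟨Subtype.val_injective.comp e.injective,
    fun g hg => ⟨e.symm ⟨g, hg⟩, congrArg Subtype.val (e.apply_symm_apply ⟨g, hg⟩)⟩, hQ, h2⟩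
  have hO : ∀ g, j g ∈ O Q := fun g => E_le_O (e g).2
  have hS := center_eq_bot e h1
  refine row88_of_rep hz hS (not_dvd_out hS ha (by norm_num)) fun V _ _ _ σ hσ A hA r hr hcard => ?_
  obtain ⟨v, hv, h0, B, hBA, hf, hB⟩ := exists_vec j (elemAb_isPGroup hA) (T := {v | Q v = 0}) (map_zero Q)
    (fun a _ v hv => (hO a v).trans hv) (k := 0) (by
      rw [show Nat.card ↥{v | Q v = 0} = 120 from hX]
      norm_num)
  have h3 := card_le_of_not_dvd (r₀ := 4) hc A hA
  rw [hcard, Nat.pow_le_pow_iff_right (by norm_num)] at h3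
  have h4 : 3 ^ 3 ≤ 3 ^ r := Nat.pow_le_pow_right (by norm_num) hr
  have h5 := H.core (by norm_num) hσ ((elemAb_isPGroup hA).to_le hBA) (fun b _ => hO b) h0 hv hf (n := 3) (t := 3)
    (by omega) (by omega) (by rw [show Nat.factorial 3 = 6 from rfl]; omega)
  have h6 := cod_mono (ρ := σ) hBA
  omega

theorem _root_.Cfsg.Agent.TwoF.XS.o8m : O8m := fun F _ _ a b hF hab => by
  have h1 : HasCyclicSchurMultiplier (POmega F (quadFormMinus 3 F a b)) 1 := S2099.result hF 4 le_rfl a b hab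
  have h2 : 1 * Nat.card (POmega F (quadFormMinus 3 F a b)) = 197406720 := S0294.result hF 4 le_rfl a b hab
  have h3 : Nat.card (MulAut (POmega F (quadFormMinus 3 F a b))) =
      2 * 1 * Nat.card (POmega F (quadFormMinus 3 F a b)) := S0818.result 2 1 le_rfl hF 4 le_rfl a b hab
  have h4 : Nat.card {v // quadFormMinus 3 F a b v = 0} = 120 := S0290.result hF 4 (by norm_num) a b hab
  exact row_omega _ (OrthForms.coe_minusForm 3 F a b) (two_eq_zero hF) (OrthForms.nondeg_minusForm 3 F a b hab)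
    (by simp) (zc_of_cyclic h1) (by rw [← one_mul (Nat.card _), h2]; norm_num) h3 h4

/-! ### the symplectic groups -/

theorem exists_nine₀ : ∃ x : Matrix.symplecticGroup (Fin 4) (ZMod 2), x ^ 9 = 1 ∧ x ^ 3 ≠ 1 := by
  let M : Matrix (Fin 4 ⊕ Fin 4) (Fin 4 ⊕ Fin 4) (ZMod 2) :=
    Matrix.fromBlocks !![0, 0, 0, 0; 1, 0, 0, 0; 0, 1, 0, 0; 0, 0, 0, 1] !![0, 0, 1, 0; 0, 0, 0, 0; 0, 0, 0, 0; 0, 0, 0, 0]
      !![0, 0, 1, 0; 0, 0, 0, 0; 0, 0, 0, 0; 0, 0, 0, 0] !![0, 0, 1, 0; 1, 0, 0, 0; 0, 1, 0, 0; 0, 0, 0, 1]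
  let N : Matrix (Fin 4 ⊕ Fin 4) (Fin 4 ⊕ Fin 4) (ZMod 2) :=
    Matrix.fromBlocks !![0, 0, 0, 0; 0, 0, 0, 0; 0, 0, 0, 0; 0, 0, 0, 1] !![1, 0, 0, 0; 0, 1, 0, 0; 0, 0, 1, 0; 0, 0, 0, 0]
      !![1, 0, 0, 0; 0, 1, 0, 0; 0, 0, 1, 0; 0, 0, 0, 0] !![1, 0, 0, 0; 0, 1, 0, 0; 0, 0, 1, 0; 0, 0, 0, 1]
  have h1 : M * Matrix.J (Fin 4) (ZMod 2) * Mᵀ = Matrix.J (Fin 4) (ZMod 2) := by decide +kernel
  have h2 : M * M * M = N := by decide +kernel
  have h3 : N * N * N = 1 := by decide +kernel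
  have h4 : N ≠ 1 := by decide +kernel
  have h5 : M ^ 3 = N := by rw [pow_three', h2]
  refine ⟨⟨M, h1⟩, Subtype.ext ?_, fun e => h4 (h5.symm.trans (congrArg Subtype.val e))⟩
  show M ^ (3 * 3) = 1
  rw [pow_mul, h5, pow_three', h3]

variable {F : Type} [Field F] [Fintype F] {m : ℕ}

theorem center_sp (hF : Fintype.card F = 2) (hm : 1 ≤ m) : center (Matrix.symplecticGroup (Fin m) F) = ⊥ :=
  card_eq_one.1 (S0246.result hF m hm)

theorem rank_le_four (hF : Fintype.card F = 2) (A : Subgroup (PSp 4 F)) (hA : IsElementaryAbelian 3 A) :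
    Nat.card A ≤ 3 ^ 4 := by
  obtain ⟨e⟩ := exists_quot (center_sp (m := 4) hF (by norm_num))
  obtain ⟨x, h1, h2⟩ := exists_nine₀
  let e' := e.trans (FieldTransfer.spCongr (Fin 4)
    (FiniteField.ringEquivOfCardEq (K := F) (K' := ZMod 2) (by rw [hF, ZMod.card])))
  have h3 : e'.symm x ^ 9 = 1 := by rw [← map_pow, h1, map_one]
  refine card_le_of_not_elemAb (r₀ := 4) (Q := zpowers (e'.symm x)) ?_ ?_
    (fun h => h2 (e'.symm.injective (by rw [map_pow, map_one]; exact h.2 _ (mem_zpowers _)))) A hA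
  · rw [Nat.card_congr e.toEquiv, S0245.result hF 4]
    decide
  · rintro ⟨_, k, rfl⟩
    refine ⟨2, Subtype.ext ?_⟩
    show (e'.symm x ^ k) ^ 9 = 1
    rw [← zpow_natCast, ← zpow_mul, mul_comm, zpow_mul, zpow_natCast, h3, one_zpow]

theorem sp_core (hF : Fintype.card F = 2) (hm : 4 ≤ m) {p : ℕ} [Fact p.Prime] (hp : p ≠ 2) {V : Type*}
    [AddCommGroup V] [Module (ZMod p) V] [Finite V] {σ : Representation (ZMod p) (PSp m F) V}
    (hσ : Function.Injective σ) {A : Subgroup (PSp m F)} (hA : IsPGroup p A) (k n t : ℕ)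
    (hk : ¬ p ^ (k + 1) ∣ 2 ^ (m + m) - 1) (hn : n + 5 ≤ m + m) (ht : p ^ k * t.factorial < Nat.card A) :
    (p - 1) * (2 * ((t + 1) * 2 ^ n)) ≤ p * ((t + 2) * cod σ A) := by
  have h2 := two_eq_zero hF
  obtain ⟨e⟩ := exists_quot (center_sp (m := m) hF (by omega))
  let j : PSp m F →* ((Fin m ⊕ Fin m → F) ≃ₗ[F] (Fin m ⊕ Fin m → F)) :=
    ((glEquiv (Fin m ⊕ Fin m) F).toMonoidHom.comp
      (Units.map (Matrix.symplecticGroup (Fin m) F).subtype)).comp (toUnits.toMonoidHom.comp e.toMonoidHom)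
  have hj : ∀ g v, j g v = (e g).1 *ᵥ v := fun g v => rfl
  have hi : Function.Injective j := fun g g' h => e.injective (Subtype.ext (Matrix.mulVec_injective
    (funext fun v => (hj g v).symm.trans ((congrArg (fun f => f v) h).trans (hj g' v)))))
  have hs : ∀ x y, polar (OrthForms.plusForm m F) x y = sympForm m F x y := fun x y => by
    rw [OrthForms.polar_plusForm, SympBasic.sympForm_eq_sum]
    exact Finset.sum_congr rfl fun i _ => by linear_combination (x (.inl i) * y (.inr i)) * h2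
  have hd : finrank F (Fin m ⊕ Fin m → F) = m + m := by simp
  obtain ⟨v, -, h0, B, hBA, hf, hB⟩ := exists_vec j hA (T := Set.univ) trivial (fun _ _ _ _ => trivial) (k := k) (by
    rwa [Nat.card_coe_set_eq, Set.ncard_univ, Nat.card_fun, Nat.card_eq_fintype_card, hF, Nat.card_sum,
      Nat.card_fin])
  have hB' := hA.to_le hBA
  obtain ⟨Q, q1, q2, q3⟩ := exists_form h2 (OrthForms.plusForm m F) j (B := B) (by
    obtain ⟨i, hi⟩ := hB'.exists_card_eq
    exact hi ▸ ((Fact.out : p.Prime).odd_of_ne_two hp).pow)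
    (fun b _ x y => by rw [hs, hs, hj, hj, SympBasic.sympForm_mulVec (e b).2]) h0 hf
  have H : Emb Q j := ⟨hi, fun g hg => by
    have h3 : ∀ x, LinearMap.toMatrix' g.toLinearMap *ᵥ x = g x := fun x => LinearMap.toMatrix'_mulVec _ x
    refine ⟨e.symm ⟨LinearMap.toMatrix' g.toLinearMap, SympBasic.mem_symplecticGroup_iff.2 fun x y => ?_⟩, ?_⟩
    · rw [h3, h3, ← hs, ← hs, ← q1, ← q1, polar_map (E_le_O hg)]
    · ext1 x
      rw [hj, e.apply_symm_apply, h3],
    fun x hx => OrthForms.nondeg_plusForm m F x fun y => (q1 x y).symm.trans (hx y), h2⟩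
  have h4 := H.core hp hσ hB' q3 h0 q2 hf (n := n) (t := t) (by omega) (by omega)
    (Nat.lt_of_mul_lt_mul_left (ht.trans_le hB))
  exact h4.trans (Nat.mul_le_mul_left _ (Nat.mul_le_mul_left _ (cod_mono hBA)))

theorem _root_.Cfsg.Agent.TwoF.XS.sp2 : Sp2 := fun p _ F _ _ m hF h4 h7 hp => by
  have h1 : HasCyclicSchurMultiplier (PSp m F) 1 := S2092.result hF m (by omega) (by omega) (by omega)
  have h2 := S0814.result 2 1 le_rfl hF m (by omega) (by omega)
  rw [if_neg (by omega)] at h2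
  obtain ⟨e⟩ := exists_quot (center_sp (m := m) hF (by omega))
  have hS := center_eq_bot e (center_sp hF (by omega))
  have h3 : p ≠ 2 := by omega
  refine row88_of_rep (zc_of_cyclic h1) hS (not_dvd_out hS h2 (Fact.out : p.Prime).not_dvd_one)
    fun V _ _ _ σ hσ A hA r hr hc => ?_
  have h5 := sp_core hF h4 h3 hσ (elemAb_isPGroup hA)
  have h6 : ∀ r₀, ¬ p ^ (r₀ + 1) ∣ 2 ^ m ^ 2 * ∏ i ∈ Finset.range m, (2 ^ (2 * (i + 1)) - 1) → r ≤ r₀ := fun r₀ h => by
    have := card_le_of_not_dvd (r₀ := r₀) (by rwa [Nat.card_congr e.toEquiv, S0245.result hF m]) A hA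
    rwa [hc, Nat.pow_le_pow_iff_right (Fact.out : p.Prime).one_lt] at this
  have h8 := Nat.pow_le_pow_right (Fact.out : p.Prime).pos (Nat.succ_le_of_lt hr)
  rw [← hc] at h8
  rcases hp with rfl | rfl
  · by_cases hm : m = 4
    · subst hm
      have h9 := rank_le_four hF A hA
      rw [hc, Nat.pow_le_pow_iff_right (by norm_num)] at h9
      have := h5 1 3 3 (by norm_num) le_rfl (lt_of_lt_of_le (by decide) h8)
      omega
    · have h9 := h6 15 (by interval_cases m <;> decide)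
      have := h5 2 5 2 (by interval_cases m <;> omega) (by omega) (lt_of_lt_of_le (by decide) h8)
      omega
  · have h9 := h6 3 (by interval_cases m <;> decide)
    have := h5 1 3 2 (by interval_cases m <;> norm_num) (by omega) (lt_of_lt_of_le (by decide) h8)
    omega

end Cfsg.Agent.TwoF.XS.SpTwo
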